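import Cfsg.Agent.OddHalf.D9.Cut
import Cfsg.Agent.SignalizersComponents.QsBasic
import Cfsg.Agent.SignalizersComponents.QuasisimpleQuotient
import Cfsg.Agent.OddHalf.Known
import Cfsg.Agent.OddHalf.D6.PumpDown
import Cfsg.Agent.SignalizersComponents.PLayerAut

-- merged: Cfsg.Agent.OddHalf.D8.Fi22.CycQuot
section

/-!
# A quotient with cyclic centre (helper956)

`D` finite quasisimple, `a ∈ Z(D)` an involution: there is `B ≤ Z(D)` with `a ∉ B` such that `D ⧸ B` is quasisimple with
centre a nontrivial cyclic 2-group, and `(D ⧸ B) / Z(D ⧸ B) ≃* D / Z(D)`.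
-/

set_option autoImplicit false

namespace Cfsg.Agent.OddHalf.D8.Fi22.CycQuot

open Subgroup Cfsg Cfsg.Agent.SignalizersComponents

universe u

/-- an abelian 2-group with at most one involution is cyclic -/
theorem isCyclic_of_one {A : Type*} [Group A] [Finite A] (hc : ∀ x y : A, x * y = y * x) (h2 : IsPGroup 2 A)
    {a : A} (ha : ∀ x : A, x * x = 1 → x = 1 ∨ x = a) : IsCyclic A := by
  classical
  have : Fintype A := Fintype.ofFinite A
  have key : ∀ k : ℕ, (Finset.univ.filter fun x : A => x ^ 2 ^ k = 1).card ≤ 2 ^ k := by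
    intro k
    induction k with
    | zero =>
      have : (Finset.univ.filter fun x : A => x ^ 2 ^ 0 = 1) = {1} := by
        ext x; simp
      rw [this]; simp
    | succ k ih =>
      have h3 : ∀ y ∈ (Finset.univ.filter fun x : A => x ^ 2 ^ (k + 1) = 1).image (fun x => x * x),
          ((Finset.univ.filter fun x : A => x ^ 2 ^ (k + 1) = 1).filter fun x => x * x = y).card ≤ 2 := by
        intro y hy
        obtain ⟨x0, -, rfl⟩ := Finset.mem_image.1 hy
        refine (Finset.card_le_card (t := {x0, x0 * a}) ?_).trans Finset.card_le_two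
        intro x hx
        have h4 := (Finset.mem_filter.1 hx).2
        have h5 : (x0⁻¹ * x) * (x0⁻¹ * x) = 1 := by
          calc (x0⁻¹ * x) * (x0⁻¹ * x) = x0⁻¹ * (x * x0⁻¹) * x := by group
            _ = x0⁻¹ * (x0⁻¹ * x) * x := by rw [hc x]
            _ = (x0 * x0)⁻¹ * (x * x) := by group
            _ = 1 := by rw [h4]; group
        rw [Finset.mem_insert, Finset.mem_singleton]
        rcases ha _ h5 with h6 | h6
        · left; rw [inv_mul_eq_one] at h6; exact h6.symm
        · right; rw [inv_mul_eq_iff_eq_mul] at h6; exact h6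
      have h6 := Finset.card_le_mul_card_image _ 2 h3
      have h7 : ((Finset.univ.filter fun x : A => x ^ 2 ^ (k + 1) = 1).image (fun x => x * x)).card ≤ 2 ^ k := by
        refine (Finset.card_le_card ?_).trans ih
        intro y hy
        obtain ⟨x, hx, rfl⟩ := Finset.mem_image.1 hy
        rw [Finset.mem_filter] at hx ⊢
        refine ⟨Finset.mem_univ _, ?_⟩
        have h8 := hx.2
        rw [pow_succ', pow_mul, pow_two] at h8
        exact h8
      calc _ ≤ 2 * _ := h6
        _ ≤ 2 * 2 ^ k := Nat.mul_le_mul_left 2 h7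
        _ = 2 ^ (k + 1) := by rw [pow_succ']
  apply isCyclic_of_card_pow_eq_one_le
  intro n hn
  obtain ⟨k, m, hm, rfl⟩ := Nat.exists_eq_two_pow_mul_odd hn.ne'
  have h1 : (Finset.univ.filter fun x : A => x ^ (2 ^ k * m) = 1) ⊆
      Finset.univ.filter fun x : A => x ^ 2 ^ k = 1 := by
    intro x hx
    rw [Finset.mem_filter] at hx ⊢
    refine ⟨Finset.mem_univ _, ?_⟩
    obtain ⟨j, hj⟩ := h2 (x ^ 2 ^ k)
    have h3 : (x ^ 2 ^ k) ^ m = 1 := by rw [← pow_mul]; exact hx.2
    have h4 : Nat.Coprime (2 ^ j) m := Nat.Coprime.pow_left _ (Nat.coprime_two_left.2 hm)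
    have h5 := pow_gcd_eq_one.2 ⟨hj, h3⟩
    rwa [h4, pow_one] at h5
  calc _ ≤ _ := Finset.card_le_card h1
    _ ≤ 2 ^ k := key k
    _ ≤ 2 ^ k * m := Nat.le_mul_of_pos_right _ hm.pos

/-- the centre of a quotient of a quasisimple group by a central subgroup -/
theorem center_quo {D : Type*} [Group D] (hD : IsQuasisimple D) (B : Subgroup D) [B.Normal]
    (hQ : IsQuasisimple (D ⧸ B)) : center (D ⧸ B) = (center D).map (QuotientGroup.mk' B) := by
  apply le_antisymm
  · have h1 : (center (D ⧸ B)).comap (QuotientGroup.mk' B) ≤ center D := by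
      have : ((center (D ⧸ B)).comap (QuotientGroup.mk' B)).Normal := Normal.comap inferInstance _
      apply QsBasic.normal_le_center_of_ne_top hD
      intro h
      have h2 : center (D ⧸ B) = ⊤ := by
        rw [eq_top_iff]
        intro x _
        obtain ⟨x, rfl⟩ := QuotientGroup.mk'_surjective B x
        exact mem_comap.1 (h ▸ mem_top x)
      have h3 := hQ.2.toNontrivial
      rw [h2] at h3
      exact not_subsingleton _ (QuotientGroup.subsingleton_quotient_top (G := D ⧸ B))
    intro x hx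
    obtain ⟨x, rfl⟩ := QuotientGroup.mk'_surjective B x
    exact mem_map_of_mem _ (h1 hx)
  · rintro _ ⟨x, hx, rfl⟩
    rw [mem_center_iff]
    intro y
    obtain ⟨y, rfl⟩ := QuotientGroup.mk'_surjective B y
    rw [← map_mul, ← map_mul, mem_center_iff.1 hx y]

/-- **a quotient with cyclic centre** -/
theorem exists_quo {D : Type u} [Group D] [Finite D] (hD : IsQuasisimple D) {a : D} (ha : a ∈ center D)
    (ha2 : orderOf a = 2) : ∃ (B : Subgroup D) (_ : B.Normal), B ≤ center D ∧ a ∉ B ∧ D9.Cut.QsCyc (D ⧸ B) ∧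
      center (D ⧸ B) ≠ ⊥ ∧ Nonempty ((D ⧸ B) ⧸ center (D ⧸ B) ≃* D ⧸ center D) := by
  classical
  have haa : a * a = 1 := by rw [← pow_two, ← ha2]; exact pow_orderOf_eq_one a
  have ha1 : a ≠ 1 := by
    rintro rfl
    rw [orderOf_one] at ha2
    omega
  -- `B` maximal
  obtain ⟨B, hB⟩ := (Set.toFinite {B : Subgroup D | B ≤ center D ∧ a ∉ B}).exists_maximal
    ⟨⊥, bot_le, fun h => ha1 (mem_bot.1 h)⟩
  have hBc : B ≤ center D := hB.prop.1
  have haB : a ∉ B := hB.prop.2
  have hmax : ∀ C : Subgroup D, C ≤ center D → B ≤ C → a ∉ C → C ≤ B := fun C h1 h2 h3 =>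
    hB.le_of_ge ⟨h1, h3⟩ h2
  have hN : B.Normal := ⟨fun n hn g => by
    have := mem_center_iff.1 (hBc hn) g
    rw [this, mul_inv_cancel_right]
    exact hn⟩
  have hQnt : Nontrivial (D ⧸ B) := by
    refine ⟨(a : D ⧸ B), 1, fun h => haB ?_⟩
    exact (QuotientGroup.eq_one_iff a).1 h
  have hQ : IsQuasisimple (D ⧸ B) := QuasisimpleQuotient.isQuasisimple_of_surjective (QuotientGroup.mk' B)
    (QuotientGroup.mk'_surjective B) hD
  have hcen := center_quo hD B hQ
  -- every subgroup of the centre that does not contain `a` is trivial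
  have hsub : ∀ x ∈ center (D ⧸ B), x ≠ 1 → (a : D ⧸ B) ∈ zpowers x := by
    intro x hx hx1
    by_contra hcon
    have h1 := hmax ((zpowers x).comap (QuotientGroup.mk' B)) (by
      intro y hy
      have h2 : QuotientGroup.mk' B y ∈ center (D ⧸ B) := (zpowers_le.2 hx) (mem_comap.1 hy)
      rw [hcen] at h2
      obtain ⟨z, hz, hzy⟩ := h2
      have h3 : z⁻¹ * y ∈ B := QuotientGroup.eq.1 hzy
      have h4 : y = z * (z⁻¹ * y) := by group
      rw [h4]
      exact mul_mem hz (hBc h3)) (by
      intro b hb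
      rw [mem_comap]
      have : QuotientGroup.mk' B b = 1 := (QuotientGroup.eq_one_iff b).2 hb
      rw [this]
      exact one_mem _) (fun h => hcon (mem_comap.1 h))
    obtain ⟨y, rfl⟩ := QuotientGroup.mk'_surjective B x
    apply hx1
    exact (QuotientGroup.eq_one_iff y).2 (h1 (mem_comap.2 (mem_zpowers _)))
  have ha' : (a : D ⧸ B) ∈ center (D ⧸ B) := by
    rw [hcen]
    exact mem_map_of_mem (QuotientGroup.mk' B) ha
  have ha1' : (a : D ⧸ B) ≠ 1 := fun h => haB ((QuotientGroup.eq_one_iff a).1 h)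
  have haa' : (a : D ⧸ B) * a = 1 := by
    rw [← QuotientGroup.mk_mul, haa, QuotientGroup.mk_one]
  have hao : orderOf (a : D ⧸ B) = 2 := orderOf_eq_prime (by rw [pow_two]; exact haa') ha1'
  -- the centre is a 2-group
  have h2g : IsPGroup 2 (center (D ⧸ B)) := by
    have : Fact (Nat.Prime 2) := ⟨Nat.prime_two⟩
    rw [IsPGroup.iff_card]
    have hpos : Nat.card (center (D ⧸ B)) ≠ 0 := Nat.card_pos.ne'
    refine ⟨_, Nat.eq_prime_pow_of_unique_prime_dvd hpos ?_⟩
    intro p hp hdvd
    have : Fact p.Prime := ⟨hp⟩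
    obtain ⟨x, hx⟩ := exists_prime_orderOf_dvd_card' (G := center (D ⧸ B)) p hdvd
    have hx1 : (x : D ⧸ B) ≠ 1 := by
      intro h
      have : x = 1 := Subtype.ext h
      rw [this, orderOf_one] at hx
      exact hp.one_lt.ne hx
    have h3 := hsub x x.2 hx1
    have h4 : orderOf (a : D ⧸ B) ∣ orderOf (x : D ⧸ B) := orderOf_dvd_of_mem_zpowers h3
    rw [hao, orderOf_coe, hx] at h4
    exact ((Nat.prime_dvd_prime_iff_eq Nat.prime_two hp).1 h4).symm
  have hcyc : IsCyclic (center (D ⧸ B)) := by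
    apply isCyclic_of_one (a := (⟨(a : D ⧸ B), ha'⟩ : center (D ⧸ B))) _ h2g
    · intro x hx
      by_cases hx1 : x = 1
      · exact Or.inl hx1
      right
      have hx1' : (x : D ⧸ B) ≠ 1 := fun h => hx1 (Subtype.ext h)
      have h3 := hsub x x.2 hx1'
      obtain ⟨k, hk⟩ := mem_zpowers_iff.1 h3
      have hxx : (x : D ⧸ B) * x = 1 := congrArg Subtype.val hx
      apply Subtype.ext
      show (x : D ⧸ B) = a
      rcases Int.even_or_odd k with ⟨j, rfl⟩ | ⟨j, rfl⟩
      · exfalso
        apply ha1'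
        have h5 : (x : D ⧸ B) ^ (j + j) = ((x : D ⧸ B) * x) ^ j := by
          rw [zpow_add, (Commute.refl (x : D ⧸ B)).mul_zpow]
        rw [← hk, h5, hxx, one_zpow]
      · rw [← hk, zpow_add, zpow_mul, zpow_one, zpow_ofNat, pow_two, hxx, one_zpow, one_mul]
    · intro x y
      exact Subtype.ext (mem_center_iff.1 y.2 x)
  refine ⟨B, hN, hBc, haB, ⟨inferInstance, hQ, h2g, hcyc⟩, ?_, ?_⟩
  · intro h
    rw [h, mem_bot] at ha'
    exact ha1' ha'
  · exact ⟨(QuotientGroup.quotientMulEquivOfEq hcen).trans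
      (QuotientGroup.quotientQuotientEquivQuotient B (center D) hBc)⟩

end Cfsg.Agent.OddHalf.D8.Fi22.CycQuot

end

-- merged: Cfsg.Agent.OddHalf.Orders.Quo
section

/-!
# Order engine: the reduction (helper907, after helper957)

`a` an involution, `D` a component of `C(a)`, `J < D` perfect with centre `{1, a}` and `|J| = 2 n`, `|K| ≤ 2 N + 1`.
Then `X = D / Z(D)` is a known simple group with `n ∣ |X|`, `|X| ≤ N`, `|X| ≠ n`, and it has a quasisimple cover with
nontrivial cyclic 2-group as centre: `exists_cover`.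
-/

set_option autoImplicit false

namespace Cfsg.Agent.OddHalf.Orders.Quo

open scoped commutatorElement
open Subgroup Cfsg Cfsg.Agent.OddHalf.Iface Cfsg.Agent.OddHalf.D9.Cut

universe u

/-- the group theory: `n ∣ |X|`, `|X| ≤ N` and `|X| ≠ n` for `X = D / Z(D)` -/
theorem quot_of {D : Type*} [Group D] [Finite D] (hp : commutator D = ⊤) {a : D} (ha : a ∈ center D)
    (ha2 : orderOf a = 2) {J : Subgroup D} (hne : J ≠ ⊤) (haJ : a ∈ J) (hJp : ⁅J, J⁆ = J)
    (hJz : ∀ x ∈ J, (∀ y ∈ J, x * y = y * x) → x = 1 ∨ x = a) {n N : ℕ} (hJc : Nat.card J = 2 * n)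
    (hc : Nat.card D ≤ 2 * N + 1) :
    n ∣ Nat.card (D ⧸ center D) ∧ Nat.card (D ⧸ center D) ≤ N ∧ Nat.card (D ⧸ center D) ≠ n := by
  classical
  -- `|D| = |Z(D)| |X|`
  have h1 := Subgroup.card_eq_card_quotient_mul_card_subgroup (center D)
  have h2 : 2 ∣ Nat.card (center D) := by
    have h3 : orderOf (⟨a, ha⟩ : center D) = 2 := by rw [orderOf_mk, ha2]
    rw [← h3]
    exact orderOf_dvd_natCard _
  have hZ0 : 0 < Nat.card (center D) := Nat.card_pos
  have hX0 : 0 < Nat.card (D ⧸ center D) := Nat.card_pos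
  have hle : Nat.card (D ⧸ center D) ≤ N := by
    have h4 : 2 ≤ Nat.card (center D) := Nat.le_of_dvd hZ0 h2
    have h5 : Nat.card (D ⧸ center D) * 2 ≤ Nat.card D := by
      rw [h1]; exact Nat.mul_le_mul_left _ h4
    omega
  -- the image of `J`
  set f : J →* D ⧸ center D := (QuotientGroup.mk' (center D)).comp J.subtype with hf
  have hker : (f.ker : Set J) = {1, ⟨a, haJ⟩} := by
    ext x
    constructor
    · intro hx
      have hx' : (x : D) ∈ center D := by
        have : f x = 1 := hx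
        rwa [hf, MonoidHom.comp_apply, QuotientGroup.mk'_apply, QuotientGroup.eq_one_iff] at this
      rcases hJz x x.2 (fun y _ => ((mem_center_iff.1 hx') y).symm) with h | h
      · left; exact Subtype.ext h
      · right; exact Subtype.ext h
    · rintro (rfl | rfl)
      · exact one_mem _
      · show f ⟨a, haJ⟩ = 1
        rw [hf, MonoidHom.comp_apply, QuotientGroup.mk'_apply, QuotientGroup.eq_one_iff]
        exact ha
  have hkc : Nat.card f.ker = 2 := by
    have hne' : (1 : J) ≠ ⟨a, haJ⟩ := by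
      intro h
      have : a = 1 := (congrArg Subtype.val h).symm
      rw [this, orderOf_one] at ha2
      omega
    have : Nat.card f.ker = Set.ncard (f.ker : Set J) := rfl
    rw [this, hker, Set.ncard_pair hne']
  have hrange : Nat.card f.range = n := by
    have h3 := Subgroup.card_eq_card_quotient_mul_card_subgroup f.ker
    rw [hkc, hJc, Nat.card_congr (QuotientGroup.quotientKerEquivRange f).toEquiv] at h3
    omega
  have hd : n ∣ Nat.card (D ⧸ center D) := by
    rw [← hrange]
    exact Subgroup.card_subgroup_dvd_card f.range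
  refine ⟨hd, hle, fun heq => hne ?_⟩
  -- equality: `D = J Z(D)`
  have htop : f.range = ⊤ := by
    apply Subgroup.eq_top_of_card_eq
    rw [hrange, heq]
  have hsup : ∀ d : D, ∃ j ∈ J, ∃ z ∈ center D, d = j * z := by
    intro d
    have h3 : (QuotientGroup.mk d : D ⧸ center D) ∈ f.range := by rw [htop]; exact mem_top _
    obtain ⟨j, hj⟩ := h3
    have h4 : (QuotientGroup.mk (j : D) : D ⧸ center D) = QuotientGroup.mk d := hj
    rw [QuotientGroup.eq] at h4
    exact ⟨j, j.2, _, h4, by group⟩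
  have hcomm : commutator D ≤ J := by
    rw [commutator_def, commutator_le]
    intro x _ y _
    obtain ⟨j, hj, z, hz, rfl⟩ := hsup x
    obtain ⟨k, hk, w, hw, rfl⟩ := hsup y
    have hz' := mem_center_iff.1 hz
    have hw' := mem_center_iff.1 hw
    have h5 : ⁅j * z, k * w⁆ = ⁅j, k⁆ := by
      rw [commutatorElement_def, commutatorElement_def]
      calc j * z * (k * w) * (j * z)⁻¹ * (k * w)⁻¹
          = j * (z * k) * w * (z⁻¹ * j⁻¹) * (w⁻¹ * k⁻¹) := by group
        _ = j * (k * z) * w * (z⁻¹ * j⁻¹) * (w⁻¹ * k⁻¹) := by rw [← hz' k]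
        _ = j * k * (z * w) * z⁻¹ * j⁻¹ * w⁻¹ * k⁻¹ := by group
        _ = j * k * (w * z) * z⁻¹ * j⁻¹ * w⁻¹ * k⁻¹ := by rw [hw' z]
        _ = j * k * (w * j⁻¹) * w⁻¹ * k⁻¹ := by group
        _ = j * k * (j⁻¹ * w) * w⁻¹ * k⁻¹ := by rw [← hw' j⁻¹]
        _ = j * k * j⁻¹ * k⁻¹ := by group
    rw [h5, ← hJp]
    exact commutator_mem_commutator hj hk
  rw [eq_top_iff, ← hp]
  exact hcomm

/-- a quasisimple group modulo its centre is not commutative -/
theorem quo_na {D : Type*} [Group D] (h : IsQuasisimple D) : ¬ IsMulCommutative (D ⧸ center D) := by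
  intro hc
  have h1 : commutator D ≤ center D := by
    rw [commutator_def, commutator_le]
    intro x _ y _
    rw [← QuotientGroup.eq_one_iff]
    have h2 := hc.is_comm.comm (QuotientGroup.mk x : D ⧸ center D) (QuotientGroup.mk y)
    show (QuotientGroup.mk (x * y * x⁻¹ * y⁻¹) : D ⧸ center D) = 1
    have h3 : (QuotientGroup.mk (x * y * x⁻¹ * y⁻¹) : D ⧸ center D) =
        QuotientGroup.mk x * QuotientGroup.mk y * (QuotientGroup.mk x)⁻¹ * (QuotientGroup.mk y)⁻¹ := rfl
    rw [h3, h2]
    group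
  rw [h.1.commutator_eq_top] at h1
  have := h.2
  obtain ⟨x, hx⟩ := exists_ne (1 : D ⧸ center D)
  apply hx
  obtain ⟨d, rfl⟩ := QuotientGroup.mk_surjective x
  rw [QuotientGroup.eq_one_iff]
  exact h1 (mem_top d)

/-- **The reduction**: the proper pump-up `D` of `J`, `|J| = 2 n`, gives a cover `Y` of a known simple group `X` with
`n ∣ |X|`, `|X| ≤ N`, `|X| ≠ n`. -/
theorem exists_cover {G : Type u} [Group G] (C : Ctx G) {K : Subgroup G} (S : Std G K) {n N : ℕ}
    (hK : Nat.card K ≤ 2 * N + 1) {a : G} {D J : Subgroup G} (ha : orderOf a = 2) (hD : CompOf a D) (hJD : J ≤ D)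
    (hne : J ≠ D) (haJ : a ∈ J) (hJp : ⁅J, J⁆ = J)
    (hJz : ∀ x ∈ J, (∀ y ∈ J, x * y = y * x) → x = 1 ∨ x = a) (hJc : Nat.card J = 2 * n) :
    ∃ (Y : Type u) (_ : Group Y), QsCyc Y ∧ center Y ≠ ⊥ ∧ IsKnownSimple' (Y ⧸ center Y) ∧
      ¬ IsMulCommutative (Y ⧸ center Y) ∧ n ∣ Nat.card (Y ⧸ center Y) ∧ Nat.card (Y ⧸ center Y) ≤ N ∧
      Nat.card (Y ⧸ center Y) ≠ n := by
  have := C.fin
  have haD : a ∈ D := hJD haJ
  have hDa : ∀ x ∈ D, x * a = a * x := fun x hx => mem_centralizer_singleton_iff.1 (hD.1 hx)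
  have hq : IsQuasisimple D :=
    Cfsg.Agent.SignalizersComponents.PLayerAut.isQuasisimple_of_equiv (subgroupOfEquivOfLe hD.1) hD.2.2
  set a' : D := ⟨a, haD⟩ with ha'
  have haz : a' ∈ center D := by
    rw [mem_center_iff]
    intro x
    exact Subtype.ext (hDa x x.2)
  have ha2 : orderOf a' = 2 := by rw [ha', orderOf_mk, ha]
  set J' : Subgroup D := J.subgroupOf D with hJ'
  have hmap : J'.map D.subtype = J := by
    rw [hJ', subgroupOf_map_subtype, inf_of_le_left hJD]
  have hJ'ne : J' ≠ ⊤ := by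
    intro h
    apply hne
    apply le_antisymm hJD
    rw [hJ', subgroupOf_eq_top] at h
    exact h
  have hJ'p : ⁅J', J'⁆ = J' := by
    apply Subgroup.map_injective D.subtype_injective
    rw [Subgroup.map_commutator, hmap, hJp]
  have hJ'z : ∀ x ∈ J', (∀ y ∈ J', x * y = y * x) → x = 1 ∨ x = a' := by
    intro x hx hy
    rcases hJz x (mem_subgroupOf.1 hx) (fun y hy' => by
      have := hy ⟨y, hJD hy'⟩ (mem_subgroupOf.2 hy')
      exact congrArg Subtype.val this) with h | h
    · exact Or.inl (Subtype.ext h)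
    · exact Or.inr (Subtype.ext h)
  have hJ'c : Nat.card J' = 2 * n := by
    rw [← hJc]
    exact Nat.card_congr (subgroupOfEquivOfLe hJD).toEquiv
  have hcard : Nat.card D ≤ 2 * N + 1 := by
    refine (S.max a D ha hD fun h => ?_).trans hK
    -- `D` is not simple
    exfalso
    have hs : IsSimpleGroup D := D6.PumpDown.IsL2o.simple h
    rcases (inferInstance : (center D).Normal).eq_bot_or_eq_top with h2 | h2
    · rw [h2, mem_bot] at haz
      rw [haz, orderOf_one] at ha2
      omega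
    · apply quo_na hq
      refine ⟨⟨fun x y => ?_⟩⟩
      obtain ⟨x, rfl⟩ := QuotientGroup.mk_surjective x
      obtain ⟨y, rfl⟩ := QuotientGroup.mk_surjective y
      rw [← QuotientGroup.mk_mul, ← QuotientGroup.mk_mul]
      have hy : y ∈ center D := h2 ▸ mem_top y
      rw [mem_center_iff.1 hy x]
  obtain ⟨h1, h2, h3⟩ := quot_of hq.1.commutator_eq_top haz ha2 hJ'ne (mem_subgroupOf.2 haJ) hJ'p hJ'z hJ'c hcard
  have hna := quo_na hq
  have hDne : D ≠ ⊤ := by
    intro h
    -- `a` would be central in `G`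
    have := C.simple
    have h1 : a ∈ center G := by
      rw [mem_center_iff]
      intro x
      exact hDa x (h ▸ mem_top x)
    rcases (inferInstance : (center G).Normal).eq_bot_or_eq_top with h2 | h2
    · rw [h2, mem_bot] at h1
      rw [h1, orderOf_one] at ha
      omega
    · apply C.na
      refine ⟨⟨fun x y => ?_⟩⟩
      have hx : y ∈ center G := h2 ▸ mem_top y
      exact mem_center_iff.1 hx x
  have hknown : IsKnownSimple' (D ⧸ center D) :=
    Known.known_quotient C.kproper D hDne (center D) hq.2 hna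
  -- the quotient with cyclic centre
  obtain ⟨B, _, -, -, hQ, hcen, ⟨e⟩⟩ := D8.Fi22.CycQuot.exists_quo hq haz ha2
  have hcY : Nat.card ((D ⧸ B) ⧸ center (D ⧸ B)) = Nat.card (D ⧸ center D) := Nat.card_congr e.toEquiv
  exact ⟨D ⧸ B, inferInstance, hQ, hcen, Known.isKnownSimple'_congr e.symm hna hknown, quo_na hQ.2.1,
    hcY ▸ h1, hcY ▸ h2, hcY ▸ h3⟩

end Cfsg.Agent.OddHalf.Orders.Quo

end
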